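import Mathlib
import Cfsg.Agent.Suz3.Last
import Cfsg.Agent.H4.TransStab

/-! The subgroup `X` of elements acting as multiples of one automorphism. -/

set_option autoImplicit false

namespace Cfsg.Agent.Suz3

open Cfsg.Agent.Suz2 (KInv cm HC Good mid kinv_mid normal_mid le_mid exists_mem_mid act_eq_one_iff exists_inv_mem
  cm_smul cm_eq_one mul_eq_cm cm_mul_left cm_mul_right conj_eq_mul_cm cm_self cm_one_left cm_inv_comm)

variable {P K : Type*} [Group P] [Group K] [MulDistribMulAction K P]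

namespace TD

variable {h : ST P K} {A : Subgroup P} {H : Four h A} {F : Type*} [Field F] [CharP F 2] {π : P → F}
  {κ : K} {lam : F} (c : h.CD π κ lam) {ρ : F → P} {D : P → P → P} {T : P → F →+ F} (d : TD H π ρ D T)
include c d

/-- the elements acting as a multiple of `σ` -/
def X (σ : F ≃+* F) : Subgroup P where
  carrier := {x | ∃ a : F, ∀ t, T x t = a * σ t}
  mul_mem' := by
    rintro x y ⟨a, ha⟩ ⟨b, hb⟩
    refine ⟨a + b, fun t => ?_⟩
    rw [T_mul c d, AddMonoidHom.add_apply, ha, hb, add_mul]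
  one_mem' := ⟨0, fun t => by rw [T_one c d, zero_mul]; rfl⟩
  inv_mem' := by
    rintro x ⟨a, ha⟩
    exact ⟨a, fun t => by rw [T_inv c d, ha]⟩

theorem mem_X {σ : F ≃+* F} {x : P} : x ∈ X c d σ ↔ ∃ a : F, ∀ t, T x t = a * σ t := Iff.rfl

theorem A_le_X (σ : F ≃+* F) : A ≤ X c d σ := by
  intro x hx
  exact ⟨0, fun t => by rw [T_A c d hx, zero_mul]; rfl⟩

omit [CharP F 2] d in
theorem commute_aut (σ τ : F ≃+* F) (t : F) : σ (τ t) = τ (σ t) := by
  have hfF := c.fin
  have := H4.TransStab.ringAut_comm σ τ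
  exact congrArg (fun f : F ≃+* F => f t) this

/-- the action on operators which are multiples of `σ` -/
theorem smul_X {σ : F ≃+* F} {x : P} {b : F} (hb : ∀ t, T x t = b * σ t) {k : K} {a : F} (ha : a ≠ 0)
    {θ : F ≃+* F} (hk : ∀ x ∈ h.E, π (k • x) = a * θ (π x)) (s : F) :
    T (k • x) s = (a * θ b / σ a) * σ s := by
  obtain ⟨t, rfl⟩ : ∃ t, s = a * θ t := ⟨θ.symm (a⁻¹ * s), by
    rw [RingEquiv.apply_symm_apply, mul_inv_cancel_left₀ ha]⟩
  rw [T_smul c d k hk, hb, map_mul, map_mul, commute_aut c σ θ t]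
  have h1 : σ a ≠ 0 := (map_ne_zero σ).2 ha
  field_simp

theorem kinv_X (σ : F ≃+* F) : KInv K (X c d σ) := by
  rintro k x ⟨b, hb⟩
  obtain ⟨a, ha, θ, hk⟩ := c.semi k
  exact ⟨_, smul_X c d hb ha hk⟩

/-- elements of `X` have fourth power one -/
theorem pow4_X {σ : F ≃+* F} {x : P} (hx : x ∈ X c d σ) : x ^ 4 = 1 := by
  obtain ⟨b, hb⟩ := hx
  by_cases hxA : x ∈ A
  · exact H.pow4_A hxA
  have hb0 : b ≠ 0 := by
    rintro rfl
    apply hxA
    apply T_zero c d
    ext t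
    rw [hb, zero_mul]; rfl
  have h1 := T_pi c d x (H.pow4E x)
  rw [d.D2, c.one, hb] at h1
  have h2 := (mul_eq_zero.1 h1).resolve_left hb0
  have h3 := (map_eq_zero σ).1 h2
  exact c.ker _ (H.pow4E x) h3

/-- the set of coefficients -/
def C (σ : F ≃+* F) : AddSubgroup F where
  carrier := {a | ∃ x : P, ∀ t, T x t = a * σ t}
  add_mem' := by
    rintro a b ⟨x, hx⟩ ⟨y, hy⟩
    refine ⟨x * y, fun t => ?_⟩
    rw [T_mul c d, AddMonoidHom.add_apply, hx, hy, add_mul]
  zero_mem' := ⟨1, fun t => by rw [T_one c d, zero_mul]; rfl⟩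
  neg_mem' := by
    rintro a ⟨x, hx⟩
    refine ⟨x, fun t => ?_⟩
    rw [hx, CharTwo.neg_eq]

theorem coeff_fix {σ : F ≃+* F} {x : P} {b : F} (hb : ∀ t, T x t = b * σ t) (hb0 : b ≠ 0) :
    ∃ v : F, v ≠ 0 ∧ b = v / σ v := by
  have hxA : x ∉ A := by
    intro hxA
    apply hb0
    have h1 := hb 1
    rw [T_A c d hxA] at h1
    have h2 : (0 : F) = b * σ 1 := h1
    rw [map_one, mul_one] at h2
    exact h2.symm
  obtain ⟨v, hv, hv2⟩ := exists_fix c d hxA (pow4_X c d ⟨b, hb⟩)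
  refine ⟨v, hv, ?_⟩
  rw [hb] at hv2
  rw [eq_div_iff ((map_ne_zero σ).2 hv)]
  exact hv2

theorem coeff_all {σ : F ≃+* F} {x0 : P} {c0 : F} (hc0 : c0 ≠ 0) (hx0 : ∀ t, T x0 t = c0 * σ t)
    {v : F} (hv : v ≠ 0) : v / σ v ∈ C c d σ := by
  obtain ⟨t0, ht0, hct⟩ := coeff_fix c d hx0 hc0
  obtain ⟨e, he, rfl⟩ := c.surj t0
  obtain ⟨f, hf, rfl⟩ := c.surj v
  have he1 : e ≠ 1 := by rintro rfl; exact ht0 c.one
  have hf1 : f ≠ 1 := by rintro rfl; exact hv c.one
  obtain ⟨k, hk⟩ := h.tr he he1 hf hf1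
  obtain ⟨a, ha, θ, hθ⟩ := c.semi k
  refine ⟨k • x0, fun t => ?_⟩
  rw [smul_X c d hx0 ha hθ, ← hk, hθ e he, hct, map_mul, map_div₀, commute_aut c σ θ (π e)]
  have h1 : σ a ≠ 0 := (map_ne_zero σ).2 ha
  have h2 : θ (σ (π e)) ≠ 0 := (map_ne_zero θ).2 ((map_ne_zero σ).2 ht0)
  field_simp

/-- `X` commutes with everything modulo `E` -/
theorem X_B {σ : F ≃+* F} {x0 : P} {c0 : F} (hc0 : c0 ≠ 0) (hx0 : ∀ t, T x0 t = c0 * σ t) :
    ∀ x ∈ X c d σ, ∀ y : P, cm x y * cm x y = 1 := by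
  classical
  have hfF := c.fin
  obtain ⟨n, hn, hF⟩ := c.card
  -- `σ` is not the identity
  have hσ : σ ≠ RingEquiv.refl F := by
    rintro rfl
    obtain ⟨v, hv, hv2⟩ := coeff_fix c d hx0 hc0
    have h1 : c0 = 1 := by
      rw [hv2]
      exact div_self hv
    apply no_one c d x0
    intro t
    rw [hx0, h1, one_mul]
    rfl
  obtain ⟨hCall, hFix⟩ := norm_set hn hF σ hσ (C c d σ) (fun v hv => coeff_all c d hc0 hx0 hv)
    (fun b hb hb0 => by
      obtain ⟨x, hx⟩ := hb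
      exact coeff_fix c d hx hb0)
  have hsurj : ∀ b : F, b ≠ 0 → ∃ v : F, v ≠ 0 ∧ b = v / σ v := by
    intro b hb0
    obtain ⟨x, hx⟩ := hCall b
    exact coeff_fix c d hx hb0
  -- uniqueness of fixed vectors
  have huniq : ∀ b v w : F, v ≠ 0 → w ≠ 0 → b * σ v = v → b * σ w = w → v = w := by
    intro b v w hv hw hbv hbw
    have hσw := (map_ne_zero σ).2 hw
    have hb0 : b ≠ 0 := by rintro rfl; rw [zero_mul] at hbv; exact hv hbv.symm
    have h0 : σ v * w = v * σ w := by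
      apply mul_left_cancel₀ hb0
      calc b * (σ v * w) = (b * σ v) * w := by ring
        _ = v * (b * σ w) := by rw [hbv, hbw]
        _ = b * (v * σ w) := by ring
    have h1 : σ (v / w) = v / w := by
      rw [map_div₀, div_eq_div_iff hσw hw, h0]
    rcases hFix _ h1 with h2 | h2
    · exact absurd h2 (div_ne_zero hv hw)
    · exact (div_eq_one_iff_eq hw).1 h2
  -- the squares of commutators are fixed
  have hBfix : ∀ x ∈ X c d σ, ∀ y : P, T x (π (cm x y * cm x y)) = π (cm x y * cm x y) := by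
    intro x hx y
    have h1 := d.D1 x y
    rw [pow4_X c d hx] at h1
    have hone : D y 1 = 1 := by
      have := d.Da y 1 h.E.one_mem 1 h.E.one_mem
      rw [mul_one] at this
      exact left_eq_mul.1 this
    rw [hone] at h1
    have h2 := eq_inv_of_mul_eq_one_right h1.symm
    rw [h.E_inv (H.BE x y)] at h2
    rw [T_pi c d x (H.BE x y), h2]
  intro x hx y
  by_contra hB
  -- coefficient representatives
  choose ξ hξ using hCall
  have hξX : ∀ b, ξ b ∈ X c d σ := fun b => ⟨b, hξ b⟩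
  have hmod : ∀ (x' : P) (b : F), (∀ t, T x' t = b * σ t) → cm x' y * cm x' y = cm (ξ b) y * cm (ξ b) y := by
    intro x' b hx'
    have h1 : T (ξ b) = T x' := by
      ext t
      rw [hξ, hx']
    have h2 := T_eq_mod c d h1
    have h3 : x' = ξ b * ((ξ b)⁻¹ * x') := by group
    rw [h3, H.B_mul_left, H.B_A_left h2, mul_one]
  let g : F →+ F := AddMonoidHom.mk' (fun b => π (cm (ξ b) y * cm (ξ b) y)) (by
    intro b b'
    show π (cm (ξ (b + b')) y * cm (ξ (b + b')) y) = _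
    rw [← hmod (ξ b * ξ b') (b + b') (fun t => by
      rw [T_mul c d, AddMonoidHom.add_apply, hξ, hξ, add_mul]), H.B_mul_left,
      c.add _ (H.BE _ _) _ (H.BE _ _)])
  have hgfix : ∀ b, b * σ (g b) = g b := by
    intro b
    have h1 := hBfix (ξ b) (hξX b) y
    rw [hξ] at h1
    exact h1
  -- `g` is not zero
  obtain ⟨b1, hb1⟩ := hx
  have hgb1 : g b1 ≠ 0 := by
    intro h0
    apply hB
    rw [hmod x b1 hb1]
    exact c.ker _ (H.BE _ _) h0
  have hgne : ∀ b, b ≠ 0 → g b ≠ 0 := by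
    intro b hb h0
    have h1 := hgfix (b + b1)
    rw [map_add, h0, zero_add, add_mul, hgfix b1] at h1
    have h2 : b * σ (g b1) = 0 := by
      exact right_eq_add.1 h1.symm
    rcases mul_eq_zero.1 h2 with h3 | h3
    · exact hb h3
    · exact (map_ne_zero σ).2 hgb1 h3
  have hg : ∀ v : F, v ≠ 0 → g (v / σ v) = v := by
    intro v hv
    have hσv := (map_ne_zero σ).2 hv
    exact huniq (v / σ v) _ _ (hgne _ (div_ne_zero hv hσv)) hv (hgfix _) (div_mul_cancel₀ v hσv)
  have hsq := sqrt_of hn hF σ g hg hsurj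
  -- now `y` composed with a suitable element acts as the identity
  set f := π (y ^ 4) with hf
  have hT : ∀ v, T y v = v + σ f * σ v := by
    intro v
    by_cases hv : v = 0
    · rw [hv, map_zero, map_zero, mul_zero, add_zero]
    have hσv := (map_ne_zero σ).2 hv
    have hvσ : v / σ v = σ v := by
      rw [div_eq_iff hσv]; exact (hsq v).symm
    have h1 := d.D1 y (ξ (σ v))
    have h2 : π (cm y (ξ (σ v)) * cm y (ξ (σ v))) = v := by
      rw [H.B_symm]
      have := hg v hv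
      rw [hvσ] at this
      exact this
    have h3 := congrArg π h1
    rw [c.add _ (H.BE _ _) _ (d.DE _ _ (H.BE _ _)), ← T_pi c d _ (H.BE _ _), ← T_pi c d _ (H.pow4E y), h2, hξ] at h3
    -- h3 : σ v * σ f = v + T y v
    have h4 : v + (v + T y v) = T y v := by
      rw [← add_assoc, CharTwo.add_self_eq_zero, zero_add]
    rw [← h4, ← h3, hf]
    ring
  apply no_one c d (y * ξ (σ f))
  intro t
  rw [T_mul c d, AddMonoidHom.add_apply, hT, hξ, add_assoc, CharTwo.add_self_eq_zero, add_zero]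

end TD

end Cfsg.Agent.Suz3
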