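import Mathlib
import Cfsg.Agent.Suz3.Last2

/-! squares, centre and commutators. -/

set_option autoImplicit false

namespace Cfsg.Agent.Suz3

open Cfsg.Agent.Suz2 (KInv cm HC Good mid kinv_mid normal_mid le_mid exists_mem_mid act_eq_one_iff exists_inv_mem
  cm_smul cm_eq_one mul_eq_cm cm_mul_left cm_mul_right conj_eq_mul_cm cm_self cm_one_left cm_inv_comm)

variable {P K : Type*} [Group P] [Group K] [MulDistribMulAction K P]

namespace ST

variable (h : ST P K)
include h

/-- If the centralizer of the "second layer" is `E` then all squares are in `E`. -/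
theorem sq_mem_of_layer (hn : h.E.Normal)
    (hC : ∀ x : P, (∀ y ∈ mid h.E ⊤ hn, cm y x = 1) → x ∈ h.E) (x : P) : x * x ∈ h.E := by
  apply hC
  intro y hy
  rw [cm_mul_right]
  have h1 : cm y x ∈ h.E := hy.2.2 x
  rw [mul_assoc x⁻¹, h.E_comm h1 x, inv_mul_cancel_left]
  exact h.mem_E.1 h1

/-- In a non-abelian Suzuki 2-group all squares lie in `E`. -/
theorem sq_mem {F : Type*} [Field F] [CharP F 2] {π : P → F} {κ : K} {lam : F} (c : h.CD π κ lam) (hna : ∃ x y : P, x * y ≠ y * x) (x : P) : x * x ∈ h.E := by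
  classical
  have hf := h.fin
  by_cases hex : ∃ B : Subgroup P, Good K B ∧ ¬ B ≤ h.E
  · -- exponent at least 4
    obtain ⟨B, hB, hBE⟩ := hex
    obtain ⟨A, hBA, hA⟩ := (Set.toFinite {B : Subgroup P | Good K B}).exists_le_maximal hB
    have hAg : Good K A := hA.1
    have hAE : ¬ A ≤ h.E := fun hc => hBE (hBA.trans hc)
    have hAne : A ≠ ⊥ := by
      rintro rfl
      exact hAE bot_le
    obtain ⟨m, hm⟩ := h.exists_HC hAg hAne
    have hm2 : 2 ≤ m := by
      by_contra hlt
      have hm1 : m = 1 := by have := hm.pos; omega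
      apply hAE
      intro a ha
      have := hm.exp a ha
      rw [hm1] at this
      rw [h.mem_E, ← pow_two]
      simpa using this
    have hself := h.centralizer_le c hm hm2 (fun C hC hAC => hA.2 hC hAC)
    have hAtop : A ≠ ⊤ := by
      rintro rfl
      obtain ⟨a, b, hab⟩ := hna
      exact hab (hAg.comm a (Subgroup.mem_top _) b (Subgroup.mem_top _))
    have hle := h.exp_le_two c hm hself hAtop
    have hm' : m = 2 := by omega
    subst hm'
    have H : Four h A := ⟨hm, hself⟩
    obtain ⟨ρ, D, T, d⟩ := H.exists_TD c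
    obtain ⟨σ, x0, c0, hc0, hx0⟩ := TD.exists_single c d hAtop
    set X := TD.X c d σ with hXdef
    have hAX : A ≤ X := TD.A_le_X c d σ
    have h4 : ∀ x ∈ X, x ^ 4 = 1 := fun x hx => TD.pow4_X c d hx
    have hB : ∀ x ∈ X, ∀ y : P, cm x y * cm x y = 1 := TD.X_B c d hc0 hx0
    have hx0X : x0 ∈ X := ⟨c0, hx0⟩
    have hx0A : x0 ∉ A := by
      intro hx
      apply hc0
      have h1 := hx0 1
      rw [TD.T_A c d hx] at h1
      have h2 : (0 : F) = c0 * σ 1 := h1
      rw [map_one, mul_one] at h2
      exact h2.symm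
    apply h.sq_mem_of_layer h.E_normal
    intro c' hc
    -- `X ≤ mid E ⊤`
    have hXY : ∀ x ∈ X, x ∈ mid h.E ⊤ h.E_normal := by
      intro x hx
      refine ⟨Subgroup.mem_top _, ?_, fun g => ?_⟩
      · rw [h.mem_E, ← Four.pow4]; exact h4 x hx
      · exact hB x hx g
    -- the centralizer as a subgroup
    let C : Subgroup P := Subgroup.centralizer (mid h.E ⊤ h.E_normal : Set P)
    have hcC : c' ∈ C := by
      rw [Subgroup.mem_centralizer_iff]
      intro y hy
      exact cm_eq_one.1 (hc y hy)
    have hCA : C ≤ A := by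
      intro z hz
      apply H.mem_of_central
      intro a ha
      rw [Subgroup.mem_centralizer_iff] at hz
      exact cm_eq_one.2 (hz a (hXY a (hAX ha)))
    have hCk : KInv K C := by
      intro k z hz
      rw [Subgroup.mem_centralizer_iff] at hz ⊢
      intro b hb
      have h1 := kinv_mid (hA := h.E_normal) h.kinv_E (fun k x _ => Subgroup.mem_top _) k⁻¹ b hb
      have h2 := congrArg (fun z => k • z) (hz _ h1)
      simpa only [smul_mul', smul_inv_smul] using h2
    by_contra hcE
    -- then `A ≤ C`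
    have hAC : A ≤ C := by
      intro a ha
      have hcA := hCA hcC
      have hc2 : c' * c' ∈ h.E := H.sq_mem hcA
      have hc21 : c' * c' ≠ 1 := hcE
      rcases eq_or_ne (a * a) 1 with ha1 | ha1
      · rw [Subgroup.mem_centralizer_iff]
        intro y _
        exact (h.E_comm (h.mem_E.2 ha1) y).symm
      · obtain ⟨k, hk⟩ := h.tr hc2 hc21 (H.sq_mem ha) ha1
        have hk' : k • (c' * c') = a * a := hk
        have h1 : (k • c')⁻¹ * a ∈ h.E := by
          rw [h.mem_E, H.sq_mul (A.inv_mem (H.hc.good.kinv k c' hcA)) ha, ← hk', smul_mul']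
          group
        have h2 : a = (k • c') * ((k • c')⁻¹ * a) := by group
        rw [h2]
        refine C.mul_mem (hCk k c' hcC) ?_
        rw [Subgroup.mem_centralizer_iff]
        intro y _
        exact (h.E_comm h1 y).symm
    apply hx0A
    apply H.mem_of_central
    intro a ha
    have h1 := hAC ha
    rw [Subgroup.mem_centralizer_iff] at h1
    exact cm_eq_one.2 (h1 x0 (hXY x0 hx0X)).symm
  · -- every `K`-invariant abelian normal subgroup is in `E`
    push Not at hex
    apply h.sq_mem_of_layer h.E_normal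
    intro c' hc
    by_contra hcE
    let C : Subgroup P := Subgroup.centralizer (mid h.E ⊤ h.E_normal : Set P)
    have hcC : c' ∈ C := by
      rw [Subgroup.mem_centralizer_iff]
      intro y hy
      exact cm_eq_one.1 (hc y hy)
    have hYn : (mid h.E ⊤ h.E_normal).Normal := normal_mid inferInstance
    have hCn : C.Normal := by
      show (Subgroup.centralizer _).Normal
      infer_instance
    have hCk : KInv K C := by
      intro k z hz
      rw [Subgroup.mem_centralizer_iff] at hz ⊢
      intro b hb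
      have h1 := kinv_mid (hA := h.E_normal) h.kinv_E (fun k x _ => Subgroup.mem_top _) k⁻¹ b hb
      have h2 := congrArg (fun z => k • z) (hz _ h1)
      simpa only [smul_mul', smul_inv_smul] using h2
    have hEC : h.E < C := by
      refine lt_of_le_not_ge ?_ (fun hle => hcE (hle hcC))
      intro e he
      rw [Subgroup.mem_centralizer_iff]
      intro y _
      exact (h.E_comm he y).symm
    obtain ⟨x1, hx1, hx1E⟩ := exists_mem_mid h.fin h.p2 h.E_normal hCn hEC
    apply hx1E
    have hgood : Good K (mid h.E C h.E_normal) := by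
      refine ⟨kinv_mid h.kinv_E hCk, normal_mid hCn, ?_⟩
      intro a ha b hb
      have h1 : a ∈ C := ha.1
      rw [Subgroup.mem_centralizer_iff] at h1
      exact (h1 b ⟨Subgroup.mem_top _, hb.2⟩).symm
    exact hex _ hgood hx1

theorem E_le_center : h.E ≤ Subgroup.center P := by
  intro e he
  rw [Subgroup.mem_center_iff]
  intro g
  exact (h.E_comm he g).symm

theorem exists_sq_ne (hna : ∃ x y : P, x * y ≠ y * x) : ∃ x : P, x * x ≠ 1 := by
  by_contra hcon
  push Not at hcon
  obtain ⟨x, y, hxy⟩ := hna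
  exact hxy (h.E_comm (h.mem_E.2 (hcon x)) y)

theorem center_eq {F : Type*} [Field F] [CharP F 2] {π : P → F} {κ : K} {lam : F} (c : h.CD π κ lam) (hna : ∃ x y : P, x * y ≠ y * x) : Subgroup.center P = h.E := by
  refine le_antisymm ?_ h.E_le_center
  intro z hz
  by_contra hzE
  have hz1 : z * z ≠ 1 := hzE
  obtain ⟨a, b, hab⟩ := hna
  apply hab
  have hall : ∀ x : P, x ∈ Subgroup.center P := by
    intro x
    by_cases hx : x * x = 1
    · exact h.E_le_center hx
    · obtain ⟨k, hk⟩ := h.tr (h.sq_mem c ⟨a, b, hab⟩ z) hz1 (h.sq_mem c ⟨a, b, hab⟩ x) hx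
      have hk' : k • (z * z) = x * x := hk
      have hkz : k • z ∈ Subgroup.center P := by
        rw [Subgroup.mem_center_iff] at hz ⊢
        intro g
        have h1 := congrArg (fun y => k • y) (hz (k⁻¹ • g))
        simpa only [smul_mul', smul_inv_smul] using h1
      have hkz' := Subgroup.mem_center_iff.1 hkz
      have h1 : (k • z)⁻¹ * x ∈ h.E := by
        rw [h.mem_E]
        rw [smul_mul'] at hk'
        calc (k • z)⁻¹ * x * ((k • z)⁻¹ * x) = (k • z)⁻¹ * (x * (k • z)⁻¹) * x := by group
          _ = (k • z)⁻¹ * ((k • z)⁻¹ * x) * x := by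
            have := Subgroup.mem_center_iff.1 (Subgroup.inv_mem _ hkz) x
            rw [this]
          _ = ((k • z) * (k • z))⁻¹ * (x * x) := by group
          _ = 1 := by rw [hk', inv_mul_cancel]
      have h2 : x = (k • z) * ((k • z)⁻¹ * x) := by group
      rw [h2]
      exact Subgroup.mul_mem _ hkz (h.E_le_center h1)
  exact (Subgroup.mem_center_iff.1 (hall b) a)

theorem comm_mem {F : Type*} [Field F] [CharP F 2] {π : P → F} {κ : K} {lam : F} (c : h.CD π κ lam) (hna : ∃ x y : P, x * y ≠ y * x) (x y : P) : x⁻¹ * y⁻¹ * x * y ∈ h.E := by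
  have e : x⁻¹ * y⁻¹ * x * y = (x⁻¹ * x⁻¹) * ((x * y⁻¹) * (x * y⁻¹)) * (y * y) := by group
  rw [e]
  exact h.E.mul_mem (h.E.mul_mem (h.sq_mem c hna _) (h.sq_mem c hna _)) (h.sq_mem c hna _)


end ST

end Cfsg.Agent.Suz3
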