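import Mathlib
import Cfsg.Agent.Suz3.ExpEight

/-! a self-centralizing homocyclic subgroup of exponent 4: the operators `D`. -/

set_option autoImplicit false

namespace Cfsg.Agent.Suz3

open Cfsg.Agent.Suz2 (KInv cm HC Good mid kinv_mid normal_mid le_mid exists_mem_mid act_eq_one_iff exists_inv_mem
  cm_smul cm_eq_one mul_eq_cm cm_mul_left cm_mul_right conj_eq_mul_cm cm_self cm_one_left cm_inv_comm)

variable {P K : Type*} [Group P] [Group K] [MulDistribMulAction K P]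

/-- The situation of a self-centralizing homocyclic subgroup of exponent 4. -/
structure Four (h : ST P K) (A : Subgroup P) : Prop where
  hc : HC K A 2
  self : Subgroup.centralizer (A : Set P) ≤ A

namespace Four

variable {h : ST P K} {A : Subgroup P} (H : Four h A)
include H

theorem E_le : h.E ≤ A := h.HC_E_le H.hc

theorem acomm {a b : P} (ha : a ∈ A) (hb : b ∈ A) : a * b = b * a := H.hc.good.comm a ha b hb

theorem sq_mem {a : P} (ha : a ∈ A) : a * a ∈ h.E := by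
  have := h.v_mem H.hc ha
  norm_num at this
  rwa [pow_two] at this

theorem cmE {a : P} (ha : a ∈ A) (g : P) : cm a g ∈ h.E := by
  have := h.v_cm H.hc ha g
  norm_num at this
  rw [h.mem_E, ← pow_two]; exact this

theorem cm_mul {a b : P} (ha : a ∈ A) (y : P) : cm (a * b) y = cm a y * cm b y := by
  rw [cm_mul_left, mul_assoc b⁻¹, h.E_comm (H.cmE ha y) b, inv_mul_cancel_left]

theorem cm_mul' {a : P} (ha : a ∈ A) (y z : P) : cm a (y * z) = cm a y * cm a z := by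
  rw [cm_mul_right, mul_assoc z⁻¹, h.E_comm (H.cmE ha y) z, inv_mul_cancel_left,
    h.E_comm (H.cmE ha z)]

theorem mem_of_central {x : P} (hx : ∀ a ∈ A, cm a x = 1) : x ∈ A := by
  apply H.self
  rw [Subgroup.mem_centralizer_iff]
  intro a ha
  exact cm_eq_one.1 (hx a ha)

theorem sqA (x : P) : x * x ∈ A := by
  apply H.mem_of_central
  intro a ha
  rw [H.cm_mul' ha]
  exact h.mem_E.1 (H.cmE ha x)

theorem cmA (x y : P) : cm x y ∈ A := by
  have h1 : cm x y = (x * x)⁻¹ * ((x * y⁻¹) * (x * y⁻¹)) * (y * y) := by unfold Suz2.cm; group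
  rw [h1]
  exact A.mul_mem (A.mul_mem (A.inv_mem (H.sqA x)) (H.sqA _)) (H.sqA y)

theorem pow4E (x : P) : x ^ 4 ∈ h.E := by
  have h1 : x ^ 4 = (x * x) * (x * x) := by rw [← pow_two, ← pow_two, ← pow_mul]
  rw [h1]
  exact H.sq_mem (H.sqA x)

omit H in
theorem pow4 (x : P) : x ^ 4 = (x * x) * (x * x) := by rw [← pow_two, ← pow_two, ← pow_mul]

/-- `B x y = [x,y]²`. -/
theorem BE (x y : P) : cm x y * cm x y ∈ h.E := H.sq_mem (H.cmA x y)

theorem sq_mul {a b : P} (ha : a ∈ A) (hb : b ∈ A) : (a * b) * (a * b) = (a * a) * (b * b) := by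
  calc (a * b) * (a * b) = a * (b * a) * b := by group
    _ = a * (a * b) * b := by rw [H.acomm ha hb]
    _ = _ := by group

theorem sq_conj {a : P} (ha : a ∈ A) (y : P) : (y⁻¹ * a * y) * (y⁻¹ * a * y) = a * a := by
  have h1 : (y⁻¹ * a * y) * (y⁻¹ * a * y) = y⁻¹ * (a * a) * y := by group
  rw [h1, mul_assoc, h.E_comm (H.sq_mem ha) y, inv_mul_cancel_left]

theorem B_mul_left (x y z : P) :
    cm (x * y) z * cm (x * y) z = (cm x z * cm x z) * (cm y z * cm y z) := by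
  rw [cm_mul_left, H.sq_mul (H.hc.conj_mem (H.cmA x z) y) (H.cmA y z), H.sq_conj (H.cmA x z)]

theorem B_mul_right (x y z : P) :
    cm x (y * z) * cm x (y * z) = (cm x y * cm x y) * (cm x z * cm x z) := by
  rw [cm_mul_right, H.sq_mul (H.cmA x z) (H.hc.conj_mem (H.cmA x y) z), H.sq_conj (H.cmA x y),
    h.E_comm (H.BE x z)]

theorem B_A_left {a : P} (ha : a ∈ A) (y : P) : cm a y * cm a y = 1 := h.mem_E.1 (H.cmE ha y)

theorem B_A_right {a : P} (ha : a ∈ A) (y : P) : cm y a * cm y a = 1 := by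
  rw [← cm_inv_comm, ← mul_inv_rev, H.B_A_left ha, inv_one]

theorem pow4_mul (x y : P) : (x * y) ^ 4 = x ^ 4 * y ^ 4 * (cm y x * cm y x) := by
  have h1 : x * y * (x * y) = (x * x) * (y * y) * (y⁻¹ * cm y x * y) := by unfold Suz2.cm; group
  rw [pow4, h1, H.sq_mul (A.mul_mem (H.sqA x) (H.sqA y)) (H.hc.conj_mem (H.cmA y x) y),
    H.sq_mul (H.sqA x) (H.sqA y), H.sq_conj (H.cmA y x), pow4, pow4]

theorem pow4_A {a : P} (ha : a ∈ A) : a ^ 4 = 1 := by
  rw [pow4]; exact h.mem_E.1 (H.sq_mem ha)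

theorem B_symm (x y : P) : cm x y * cm x y = cm y x * cm y x := by
  rw [← cm_inv_comm, ← mul_inv_rev, h.E_inv (H.BE y x)]

theorem pow4_coset (x : P) {a : P} (ha : a ∈ A) : (x * a) ^ 4 = x ^ 4 := by
  rw [H.pow4_mul, H.pow4_A ha, H.B_A_left ha, mul_one, mul_one]

/-- square roots in `A` -/
theorem exists_sq {e : P} (he : e ∈ h.E) : ∃ w ∈ A, w * w = e := by
  obtain ⟨a, ha, hae⟩ := h.v_surj H.hc he
  refine ⟨a, ha, ?_⟩
  norm_num at hae
  rw [← pow_two]; exact hae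

theorem cm_eq_of_sq {a b : P} (ha : a ∈ A) (hb : b ∈ A) (hab : a * a = b * b) (y : P) :
    cm a y = cm b y := by
  have h1 : b⁻¹ * a ∈ h.E := by
    rw [h.mem_E, H.sq_mul (A.inv_mem hb) ha, hab, ← mul_inv_rev, inv_mul_cancel]
  have h3 : a = b * (b⁻¹ * a) := by group
  rw [h3, H.cm_mul hb, cm_eq_one.2 (h.E_comm h1 y), mul_one]

/-- The operator `D y : E → E`, `D y (w²) = [w, y]`. -/
theorem exists_D : ∃ D : P → P → P, (∀ a ∈ A, ∀ y, D y (a * a) = cm a y) ∧
    (∀ y, ∀ e ∈ h.E, D y e ∈ h.E) ∧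
    (∀ y, ∀ e ∈ h.E, ∀ f ∈ h.E, D y (e * f) = D y e * D y f) ∧
    (∀ y z, ∀ e ∈ h.E, D (y * z) e = D y e * D z e) ∧
    (∀ k : K, ∀ y, ∀ e ∈ h.E, D (k • y) (k • e) = k • D y e) ∧
    (∀ a ∈ A, ∀ e ∈ h.E, D a e = 1) ∧
    (∀ x y : P, D y (x ^ 4) = (cm x y * cm x y) * D x (cm x y * cm x y)) ∧
    (∀ x : P, D x (x ^ 4) = 1) := by
  choose! w hwA hww using fun (e : P) (he : e ∈ h.E) => H.exists_sq he
  have hD : ∀ a ∈ A, ∀ y, cm (w (a * a)) y = cm a y := fun a ha y =>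
    H.cm_eq_of_sq (hwA _ (H.sq_mem ha)) ha (hww _ (H.sq_mem ha)) y
  have hD' : ∀ e ∈ h.E, ∀ a ∈ A, a * a = e → ∀ y, cm (w e) y = cm a y := by
    rintro e he a ha rfl y
    exact hD a ha y
  refine ⟨fun y e => cm (w e) y, hD, fun y e he => H.cmE (hwA e he) y, ?_, ?_, ?_, ?_, ?_, ?_⟩
  · intro y e he f hf
    show cm (w (e * f)) y = cm (w e) y * cm (w f) y
    rw [← H.cm_mul (hwA e he)]
    refine hD' _ (h.E.mul_mem he hf) _ (A.mul_mem (hwA e he) (hwA f hf)) ?_ y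
    rw [H.sq_mul (hwA e he) (hwA f hf), hww e he, hww f hf]
  · intro y z e he
    exact H.cm_mul' (hwA e he) y z
  · intro k y e he
    show cm (w (k • e)) (k • y) = k • cm (w e) y
    rw [cm_smul]
    refine hD' _ (h.kinv_E k e he) _ (H.hc.good.kinv k _ (hwA e he)) ?_ _
    rw [← smul_mul', hww e he]
  · intro a ha e he
    exact cm_eq_one.2 (H.acomm (hwA e he) ha)
  · intro x y
    show cm (w (x ^ 4)) y = (cm x y * cm x y) * cm (w (cm x y * cm x y)) x
    rw [pow4, hD _ (H.sqA x) y, hD _ (H.cmA x y) x, cm_mul_left, conj_eq_mul_cm]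
    have h2 := h.E_comm (H.cmE (H.cmA x y) x) (cm x y)
    rw [mul_assoc, h2, ← mul_assoc]
  · intro x
    show cm (w (x ^ 4)) x = 1
    rw [pow4, hD _ (H.sqA x) x, cm_eq_one]
    group


end Four

end Cfsg.Agent.Suz3
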