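import Mathlib
import Cfsg.Agent.Suz3.Hua

/-! the centralizer of a maximal invariant abelian normal subgroup; exponent at most 4. -/

set_option autoImplicit false

namespace Cfsg.Agent.Suz3

open Cfsg.Agent.Suz2 (KInv cm HC Good mid kinv_mid normal_mid le_mid exists_mem_mid act_eq_one_iff exists_inv_mem
  cm_smul cm_eq_one mul_eq_cm cm_mul_left cm_mul_right conj_eq_mul_cm cm_self cm_one_left cm_inv_comm)

variable {P K : Type*} [Group P] [Group K] [MulDistribMulAction K P]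

namespace ST

variable (h : ST P K)
include h

/-- Step 1: a maximal `K`-invariant abelian normal subgroup of exponent at least 4 is
self-centralizing. -/
theorem centralizer_le {F : Type*} [Field F] [CharP F 2] {π : P → F} {κ : K} {lam : F} (c : h.CD π κ lam) {A : Subgroup P} {m : ℕ} (hA : HC K A m) (hm : 2 ≤ m)
    (hmax : ∀ B : Subgroup P, Good K B → A ≤ B → B ≤ A) : Subgroup.centralizer (A : Set P) ≤ A := by
  have hf := h.fin
  set C := Subgroup.centralizer (A : Set P) with hC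
  have hAC : A ≤ C := by
    intro a ha
    rw [hC, Subgroup.mem_centralizer_iff]
    intro b hb
    exact hA.good.comm b hb a ha
  by_contra hCA
  have hlt : A < C := lt_of_le_not_ge hAC hCA
  have hAn := hA.good.normal
  have hCn : C.Normal := by rw [hC]; infer_instance
  have hCk : KInv K C := by
    intro k c' hc
    rw [hC, Subgroup.mem_centralizer_iff] at hc ⊢
    intro b hb
    have := hc (k⁻¹ • b) (hA.good.kinv k⁻¹ b hb)
    have h2 := congrArg (fun z => k • z) this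
    simpa only [smul_mul', smul_inv_smul] using h2
  have hccomm : ∀ c ∈ C, ∀ a ∈ A, c * a = a * c := by
    intro c hc a ha
    rw [hC, Subgroup.mem_centralizer_iff] at hc
    exact (hc a ha).symm
  obtain ⟨x1, hx1, hx1A⟩ := exists_mem_mid h.fin h.p2 hAn hCn hlt
  set M := mid A C hAn with hM
  have hMk : KInv K M := kinv_mid hA.good.kinv hCk
  have hAM : A ≤ M := le_mid hAC
  have hMC : M ≤ C := fun x hx => hx.1
  have hle := h.HC_E_le hA
  -- commutators in `M`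
  have hcA : ∀ x ∈ M, ∀ y : P, cm x y ∈ A := fun x hx y => hx.2.2 y
  have hcl : ∀ x ∈ M, ∀ y ∈ M, ∀ z ∈ M, cm (x * y) z = cm x z * cm y z := by
    intro x hx y hy z hz
    rw [cm_mul_left, mul_assoc y⁻¹, ← hccomm y (hMC hy) _ (hcA x hx z), inv_mul_cancel_left]
  have hcr : ∀ x ∈ M, ∀ y ∈ M, ∀ z ∈ M, cm x (y * z) = cm x y * cm x z := by
    intro x hx y hy z hz
    rw [cm_mul_right, mul_assoc z⁻¹, ← hccomm z (hMC hz) _ (hcA x hx y), inv_mul_cancel_left,
      hA.good.comm _ (hcA x hx z) _ (hcA x hx y)]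
  have hcE : ∀ x ∈ M, ∀ y ∈ M, cm x y ∈ h.E := by
    intro x hx y hy
    rw [h.mem_E, ← hcl x hx x hx y hy, cm_eq_one]
    exact (hccomm y (hMC hy) _ hx.2.1).symm
  have hcA1 : ∀ a ∈ A, ∀ y ∈ M, cm a y = 1 := fun a ha y hy =>
    cm_eq_one.2 (hccomm y (hMC hy) a ha).symm
  -- the power map
  have hσ : ∀ x : P, x ^ (2 ^ m) = (x * x) ^ (2 ^ (m - 1)) := by
    intro x
    rw [← pow_two, ← pow_mul, ← _root_.pow_succ', Nat.sub_add_cancel hA.pos]
  have hσE : ∀ x ∈ M, x ^ (2 ^ m) ∈ h.E := fun x hx => by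
    rw [hσ]; exact h.v_mem hA hx.2.1
  have hEpow : ∀ e ∈ h.E, e ^ (2 ^ (m - 1)) = 1 := by
    intro e he
    obtain ⟨l, hl⟩ : ∃ l, m - 1 = l + 1 := ⟨m - 2, by omega⟩
    rw [hl, _root_.pow_succ', pow_mul, pow_two, h.mem_E.1 he, one_pow]
  have hσmul : ∀ x ∈ M, ∀ y ∈ M, (x * y) ^ (2 ^ m) = x ^ (2 ^ m) * y ^ (2 ^ m) := by
    intro x hx y hy
    have h1 : x * y * (x * y) = (x * x) * (y * y) * cm y x := by
      have h2 : y * x = x * y * cm y x := mul_eq_cm y x
      have h3 : cm y x * y = y * cm y x := h.E_comm (hcE y hy x hx) y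
      calc x * y * (x * y) = x * (y * x) * y := by group
        _ = x * (x * y * cm y x) * y := by rw [← h2]
        _ = x * x * y * (cm y x * y) := by group
        _ = _ := by rw [h3]; group
    rw [hσ, h1, hA.pow_mul_pow (A.mul_mem hx.2.1 hy.2.1) (hcA y hy x), hA.pow_mul_pow hx.2.1 hy.2.1,
      hEpow _ (hcE y hy x hx), mul_one, ← hσ, ← hσ]
  have hσker : ∀ x ∈ M, x ^ (2 ^ m) = 1 → x ∈ A := by
    intro x hx h1
    rw [hσ] at h1
    obtain ⟨b, hb, hb2⟩ := h.v_ker hA hx.2.1 h1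
    have h2 : x * b⁻¹ ∈ h.E := by
      rw [h.mem_E]
      have h3 : x * b⁻¹ = b⁻¹ * x := hccomm x (hMC hx) _ (A.inv_mem hb)
      calc x * b⁻¹ * (x * b⁻¹) = x * b⁻¹ * (b⁻¹ * x) := by rw [h3]
        _ = x * (b * b)⁻¹ * x := by group
        _ = x * (x * x)⁻¹ * x := by rw [hb2]
        _ = 1 := by group
    have h3 := A.mul_mem (hle h2) hb
    rwa [inv_mul_cancel_right] at h3
  have hσsurj : ∀ e ∈ h.E, ∃ x ∈ M, x ^ (2 ^ m) = e := by
    intro e he
    rcases eq_or_ne e 1 with rfl | he1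
    · exact ⟨1, M.one_mem, one_pow _⟩
    have h1 : x1 ^ (2 ^ m) ≠ 1 := fun h1 => hx1A (hσker x1 hx1 h1)
    obtain ⟨k, hk⟩ := h.tr (hσE x1 hx1) h1 he he1
    refine ⟨k • x1, hMk k x1 hx1, ?_⟩
    rw [← smul_pow']; exact hk
  have hσeq : ∀ x ∈ M, ∀ y ∈ M, x ^ (2 ^ m) = y ^ (2 ^ m) → ∀ z ∈ M, cm x z = cm y z ∧ cm z x = cm z y := by
    intro x hx y hy hxy z hz
    have h1 : (y⁻¹ * x) ^ (2 ^ m) = 1 := by
      rw [hσmul _ (M.inv_mem hy) _ hx, hxy, inv_pow, inv_mul_cancel]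
    have h2 := hσker _ (M.mul_mem (M.inv_mem hy) hx) h1
    have h3 : x = y * (y⁻¹ * x) := by group
    have h4 : cm x z = cm y z := by
      rw [h3, hcl y hy _ (hAM h2) z hz, hcA1 _ h2 z hz, mul_one]
    refine ⟨h4, ?_⟩
    rw [← cm_inv_comm x z, ← cm_inv_comm y z, h4]
  choose! r hrM hr using hσsurj
  have key := c.hua_E (fun e f => cm (r e) (r f))
    (fun e he f hf => hcE _ (hrM e he) _ (hrM f hf))
    (fun e he e' he' f hf => by
      show cm (r (e * e')) (r f) = cm (r e) (r f) * cm (r e') (r f)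
      rw [← hcl _ (hrM e he) _ (hrM e' he') _ (hrM f hf)]
      refine (hσeq _ (hrM _ (h.E.mul_mem he he')) _ (M.mul_mem (hrM e he) (hrM e' he')) ?_ _ (hrM f hf)).1
      rw [hr _ (h.E.mul_mem he he'), hσmul _ (hrM e he) _ (hrM e' he'), hr e he, hr e' he'])
    (fun e he f hf f' hf' => by
      show cm (r e) (r (f * f')) = cm (r e) (r f) * cm (r e) (r f')
      rw [← hcr _ (hrM e he) _ (hrM f hf) _ (hrM f' hf')]
      refine (hσeq _ (hrM _ (h.E.mul_mem hf hf')) _ (M.mul_mem (hrM f hf) (hrM f' hf')) ?_ _ (hrM e he)).2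
      rw [hr _ (h.E.mul_mem hf hf'), hσmul _ (hrM f hf) _ (hrM f' hf'), hr f hf, hr f' hf'])
    (fun e he => cm_self _)
    (fun k e he f hf => by
      show cm (r (k • e)) (r (k • f)) = k • cm (r e) (r f)
      rw [cm_smul]
      have h1 : ∀ e ∈ h.E, (r (k • e)) ^ (2 ^ m) = (k • r e) ^ (2 ^ m) := fun e he => by
        rw [hr _ (h.kinv_E k e he), ← smul_pow', hr e he]
      rw [(hσeq _ (hrM _ (h.kinv_E k e he)) _ (hMk k _ (hrM e he)) (h1 e he) _ (hrM _ (h.kinv_E k f hf))).1]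
      exact (hσeq _ (hrM _ (h.kinv_E k f hf)) _ (hMk k _ (hrM f hf)) (h1 f hf) _ (hMk k _ (hrM e he))).2)
  have hMab : ∀ x ∈ M, ∀ y ∈ M, x * y = y * x := by
    intro x hx y hy
    rw [← cm_eq_one]
    have h1 := key _ (hσE x hx) _ (hσE y hy)
    have h2 := (hσeq x hx _ (hrM _ (hσE x hx)) (hr _ (hσE x hx)).symm y hy).1
    have h3 := (hσeq y hy _ (hrM _ (hσE y hy)) (hr _ (hσE y hy)).symm _ (hrM _ (hσE x hx))).2
    rw [h2, h3]; exact h1
  have := hmax M ⟨hMk, normal_mid hCn, hMab⟩ hAM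
  exact hx1A (this hx1)


end ST

end Cfsg.Agent.Suz3
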